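import Cfsg.Agent.QuatQuat.Pair

/-!
The central product of two quaternion groups of order eight, computed in their direct product.
-/

set_option autoImplicit false
set_option linter.style.haveILetI false
set_option linter.unusedSectionVars false
set_option maxHeartbeats 400000
set_option synthInstance.maxSize 2048
set_option synthInstance.maxHeartbeats 200000

namespace Cfsg.Agent.QuatQuat

open Subgroup

/-- the direct product -/
abbrev X := QuaternionGroup 2 × QuaternionGroup 2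

/-- the central involution of a quaternion group -/
def mq : QuaternionGroup 2 := QuaternionGroup.a 2

/-- the class modulo the centre -/
def cl : QuaternionGroup 2 → ℕ
  | QuaternionGroup.a i => i.val % 2
  | QuaternionGroup.xa i => 2 + i.val % 2

/-- a fixed-point-free permutation of the three non-trivial classes -/
def sig : ℕ → ℕ
  | 1 => 2
  | 2 => 3
  | 3 => 1
  | n => n

/-- the kernel to the central product -/
def K0 (x : X) : Prop := x = 1 ∨ x = (mq, mq)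

instance : DecidablePred K0 := fun x => inferInstanceAs (Decidable (x = 1 ∨ x = (mq, mq)))

/-- equality in the central product -/
def Eqv (x y : X) : Prop := K0 (x⁻¹ * y)

instance (x y : X) : Decidable (Eqv x y) := inferInstanceAs (Decidable (K0 (x⁻¹ * y)))

/-- first subgroup -/
def PA (x : X) : Bool := cl x.2 == cl x.1

/-- second subgroup -/
def PB (x : X) : Bool := cl x.2 == sig (cl x.1)

/-- the central involution -/
def zX : X := (mq, 1)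

/-- the finitely many facts, for a pair of subgroups -/
def Facts (P R : X → Bool) (p0 r0 : X) : Prop :=
  (P 1 = true ∧ P zX = true ∧ (∀ x y, P x → P y → P (x * y)) ∧ (∀ x, P x → P x⁻¹)) ∧
  ((∀ x, (∀ a, P a → Eqv (x * a) (a * x)) → P x) ∧ (∀ x a, P a → P (x * a * x⁻¹)) ∧ (∀ a, P a → K0 (a * a))) ∧
  (∀ x, ∃ a, P a ∧ ∃ b, R b ∧ Eqv x (a * b)) ∧
  ((∀ p, R p → ¬ K0 p → ¬ Eqv p zX → ∀ r, R r → ¬ K0 r → ¬ Eqv r zX → ¬ Eqv r p → ¬ Eqv r (p * zX) →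
      ∀ d, P d → Eqv (p * d) (d * p) → Eqv (r * d) (d * r) → K0 d ∨ Eqv d zX) ∧
    (∀ p, R p → ¬ K0 p → ¬ Eqv p zX → ∀ a, P a → ¬ K0 a → ¬ Eqv a zX → Eqv (p * a) (a * p) →
      ∀ a', P a' → ¬ K0 a' → ¬ Eqv a' zX → Eqv (p * a') (a' * p) → Eqv a' a ∨ Eqv a' (a * zX))) ∧
  (R p0 = true ∧ R r0 = true ∧
    (∀ i j : Fin 2, ∃ c, P c ∧ Eqv (c * p0 * c⁻¹) (p0 * zX ^ i.val) ∧ Eqv (c * r0 * c⁻¹) (r0 * zX ^ j.val)) ∧
    (∀ b, R b → ∃ i j k : Fin 2, Eqv b (zX ^ i.val * p0 ^ j.val * r0 ^ k.val)))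

theorem closed_AB : ∀ x y : X, (PA x → PA y → PA (x * y)) ∧ (PB x → PB y → PB (x * y)) := by decide +kernel

theorem misc_AB : (PA 1 = true ∧ PA zX = true ∧ PB 1 = true ∧ PB zX = true) ∧
    (∀ x, PA x → PA x⁻¹) ∧ (∀ x, PB x → PB x⁻¹) ∧ (∀ a, PA a → K0 (a * a)) ∧ (∀ a, PB a → K0 (a * a)) := by
  decide +kernel

theorem cent_AB : (∀ x, (∀ a, PA a → Eqv (x * a) (a * x)) → PA x) ∧
    (∀ x, (∀ a, PB a → Eqv (x * a) (a * x)) → PB x) := by decide +kernel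

theorem norm_AB : (∀ x a, PA a → PA (x * a * x⁻¹)) ∧ (∀ x a, PB a → PB (x * a * x⁻¹)) := by decide +kernel

theorem gen_AB : (∀ x, ∃ a, PA a ∧ ∃ b, PB b ∧ Eqv x (a * b)) ∧ (∀ x, ∃ a, PB a ∧ ∃ b, PA b ∧ Eqv x (a * b)) := by
  decide +kernel

theorem one_A : ∀ p, PB p → ¬ K0 p → ¬ Eqv p zX → ∀ r, PB r → ¬ K0 r → ¬ Eqv r zX → ¬ Eqv r p → ¬ Eqv r (p * zX) →
    ∀ d, PA d → Eqv (p * d) (d * p) → Eqv (r * d) (d * r) → K0 d ∨ Eqv d zX := by decide +kernel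

theorem one_B : ∀ p, PA p → ¬ K0 p → ¬ Eqv p zX → ∀ r, PA r → ¬ K0 r → ¬ Eqv r zX → ¬ Eqv r p → ¬ Eqv r (p * zX) →
    ∀ d, PB d → Eqv (p * d) (d * p) → Eqv (r * d) (d * r) → K0 d ∨ Eqv d zX := by decide +kernel

theorem uniq_A : ∀ p, PB p → ¬ K0 p → ¬ Eqv p zX → ∀ a, PA a → ¬ K0 a → ¬ Eqv a zX → Eqv (p * a) (a * p) →
    ∀ a', PA a' → ¬ K0 a' → ¬ Eqv a' zX → Eqv (p * a') (a' * p) → Eqv a' a ∨ Eqv a' (a * zX) := by decide +kernel

theorem uniq_B : ∀ p, PA p → ¬ K0 p → ¬ Eqv p zX → ∀ a, PB a → ¬ K0 a → ¬ Eqv a zX → Eqv (p * a) (a * p) →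
    ∀ a', PB a' → ¬ K0 a' → ¬ Eqv a' zX → Eqv (p * a') (a' * p) → Eqv a' a ∨ Eqv a' (a * zX) := by decide +kernel

/-- generators of the first subgroup -/
def gA : X × X := ((QuaternionGroup.a 1, QuaternionGroup.a 1), (QuaternionGroup.xa 0, QuaternionGroup.xa 0))

/-- generators of the second subgroup -/
def gB : X × X := ((QuaternionGroup.a 1, QuaternionGroup.xa 0), (QuaternionGroup.xa 0, QuaternionGroup.xa 1))

theorem inner_A : (PB gB.1 = true ∧ PB gB.2 = true) ∧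
    (∀ i j : Fin 2, ∃ c, PA c ∧ Eqv (c * gB.1 * c⁻¹) (gB.1 * zX ^ i.val) ∧ Eqv (c * gB.2 * c⁻¹) (gB.2 * zX ^ j.val)) ∧
    (∀ b, PB b → ∃ i j k : Fin 2, Eqv b (zX ^ i.val * gB.1 ^ j.val * gB.2 ^ k.val)) := by decide +kernel

theorem inner_B : (PA gA.1 = true ∧ PA gA.2 = true) ∧
    (∀ i j : Fin 2, ∃ c, PB c ∧ Eqv (c * gA.1 * c⁻¹) (gA.1 * zX ^ i.val) ∧ Eqv (c * gA.2 * c⁻¹) (gA.2 * zX ^ j.val)) ∧
    (∀ b, PA b → ∃ i j k : Fin 2, Eqv b (zX ^ i.val * gA.1 ^ j.val * gA.2 ^ k.val)) := by decide +kernel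

theorem factsA : Facts PA PB gB.1 gB.2 :=
  ⟨⟨misc_AB.1.1, misc_AB.1.2.1, fun x y => (closed_AB x y).1, misc_AB.2.1⟩,
    ⟨cent_AB.1, norm_AB.1, misc_AB.2.2.2.1⟩, gen_AB.1, ⟨one_A, uniq_A⟩,
    inner_A.1.1, inner_A.1.2, inner_A.2.1, inner_A.2.2⟩

theorem factsB : Facts PB PA gA.1 gA.2 :=
  ⟨⟨misc_AB.1.2.2.1, misc_AB.1.2.2.2, fun x y => (closed_AB x y).2, misc_AB.2.2.1⟩,
    ⟨cent_AB.2, norm_AB.2, misc_AB.2.2.2.2⟩, gen_AB.2, ⟨one_B, uniq_B⟩,
    inner_B.1.1, inner_B.1.2, inner_B.2.1, inner_B.2.2⟩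

/-- the subgroup of the product given by a predicate -/
def psub {P R : X → Bool} {p0 r0 : X} (hf : Facts P R p0 r0) : Subgroup X where
  carrier := {x | P x = true}
  one_mem' := hf.1.1
  mul_mem' := fun hx hy => hf.1.2.2.1 _ _ hx hy
  inv_mem' := fun hx => hf.1.2.2.2 _ hx

variable {S : Type*} [Group S]

/-- transfer to an image of the product -/
theorem pr_of_facts {P R : X → Bool} {p0 r0 p1 r1 : X} (hf : Facts P R p0 r0) (hf' : Facts R P p1 r1)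
    {φ : X →* S} (hker : ∀ x, φ x = 1 ↔ K0 x) (hC : centralizer (φ.range : Set S) ≤ φ.range) :
    Pr φ.range ((psub hf).map φ) ((psub hf').map φ) (φ zX) := by
  have heq : ∀ x y, φ x = φ y ↔ Eqv x y := fun x y => by
    rw [Eqv, ← hker, map_mul, map_inv, inv_mul_eq_one]
  have hcz : ∀ x : X, x * zX = zX * x := by decide +kernel
  obtain ⟨-, ⟨hcent, hnorm, hsq⟩, hgen, ⟨hone, huniq⟩, hp0, hr0, hc, hb⟩ := id hf
  obtain ⟨-, ⟨-, -, hsq'⟩, -⟩ := id hf'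
  refine ⟨hC, map_le_range _ _, map_le_range _ _, ⟨zX, hf.1.2.1, rfl⟩, ⟨zX, hf'.1.2.1, rfl⟩, ?_, ?_, ?_, ?_, ?_,
    ?_, ?_, ?_, ?_⟩
  · rintro _ ⟨x, rfl⟩
    rw [← map_mul, ← map_mul, hcz]
  · rintro _ ⟨a, ha, rfl⟩
    rw [← map_mul]
    exact (hker _).2 (hsq a ha)
  · rintro _ ⟨a, ha, rfl⟩
    rw [← map_mul]
    exact (hker _).2 (hsq' a ha)
  · rintro _ ⟨x, rfl⟩ hx
    refine ⟨x, hcent x fun a ha => (heq _ _).1 ?_, rfl⟩
    rw [map_mul, map_mul]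
    exact hx _ ⟨a, ha, rfl⟩
  · rintro _ ⟨x, rfl⟩ _ ⟨a, ha, rfl⟩
    exact ⟨x * a * x⁻¹, hnorm x a ha, by simp only [map_mul, map_inv]⟩
  · rintro _ ⟨x, rfl⟩
    obtain ⟨a, ha, b, hb, e⟩ := hgen x
    exact ⟨_, ⟨a, ha, rfl⟩, _, ⟨b, hb, rfl⟩, ((heq _ _).2 e).trans (map_mul φ a b)⟩
  · rintro _ ⟨p, hp, rfl⟩ _ ⟨r, hr, rfl⟩ _ ⟨d, hd, rfl⟩ e1 e2 h1 h2 h3 h4 h5 h6
    rw [← map_mul, ← map_mul, heq] at e1 e2
    rw [← map_mul] at h6
    rcases hone p hp (fun e => h1 ((hker p).2 e)) (fun e => h2 ((heq p zX).2 e)) r hr (fun e => h3 ((hker r).2 e))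
      (fun e => h4 ((heq r zX).2 e)) (fun e => h5 ((heq r p).2 e)) (fun e => h6 ((heq _ _).2 e)) d hd e1 e2 with
      e | e
    · exact Or.inl ((hker d).2 e)
    · exact Or.inr ((heq d zX).2 e)
  · rintro _ ⟨p, hp, rfl⟩ h1 h2 _ ⟨a, ha, rfl⟩ _ ⟨a', ha', rfl⟩ h3 h4 h5 h6 e1 e2
    rw [← map_mul, ← map_mul, heq] at e1 e2
    rcases huniq p hp (fun e => h1 ((hker p).2 e)) (fun e => h2 ((heq p zX).2 e)) a ha (fun e => h3 ((hker a).2 e))
      (fun e => h4 ((heq a zX).2 e)) e1 a' ha' (fun e => h5 ((hker a').2 e)) (fun e => h6 ((heq a' zX).2 e)) e2 with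
      e | e
    · exact Or.inl ((heq _ _).2 e)
    · exact Or.inr (((heq _ _).2 e).trans (map_mul φ a zX))
  · intro f hfz hfm hf1
    have hzz : φ zX * φ zX = 1 := by rw [← map_mul]; exact (hker _).2 (hsq zX hf.1.2.1)
    have hex : ∀ b ∈ (psub hf').map φ, ∃ i : Fin 2, f b = φ zX ^ i.val := fun b hb => by
      rcases hfz b hb with e | e
      exacts [⟨0, by rw [e, Fin.val_zero, pow_zero]⟩, ⟨1, by rw [e, Fin.val_one, pow_one]⟩]
    obtain ⟨i, hi⟩ := hex _ ⟨p0, hp0, rfl⟩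
    obtain ⟨j, hj⟩ := hex _ ⟨r0, hr0, rfl⟩
    obtain ⟨c, hcP, hcp, hcr⟩ := hc i j
    refine ⟨φ c, ⟨c, hcP, rfl⟩, ?_⟩
    set B := (psub hf').map φ with hB
    set d := φ c with hd
    have hzc : ∀ x : X, φ x * φ zX = φ zX * φ x := fun x => by rw [← map_mul, ← map_mul, hcz]
    have hone' : f 1 = 1 := by
      have := hfm 1 B.one_mem 1 B.one_mem
      rw [mul_one] at this
      exact left_eq_mul.1 this
    have hmul : ∀ b ∈ B, ∀ b' ∈ B, d * b * d⁻¹ = b * f b → d * b' * d⁻¹ = b' * f b' →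
        d * (b * b') * d⁻¹ = b * b' * f (b * b') := by
      intro b hb b' hb' e e'
      have hcb : Commute b' (f b) := by
        obtain ⟨x, -, rfl⟩ := hb'
        rcases hfz b hb with e1 | e1 <;> rw [e1]
        exacts [Commute.one_right _, hzc x]
      calc d * (b * b') * d⁻¹ = d * b * d⁻¹ * (d * b' * d⁻¹) := by group
        _ = b * (f b * b') * f b' := by rw [e, e']; group
        _ = b * (b' * f b) * f b' := by rw [hcb.eq]
        _ = b * b' * f (b * b') := by rw [hfm b hb b' hb']; group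
    have hpw : ∀ b ∈ B, d * b * d⁻¹ = b * f b → ∀ n : Fin 2, b ^ n.val ∈ B ∧ d * b ^ n.val * d⁻¹ = b ^ n.val * f (b ^ n.val) := by
      intro b hb e n
      refine ⟨pow_mem hb _, ?_⟩
      fin_cases n
      · simp [hone']
      · simpa using e
    have h0 : d * φ zX * d⁻¹ = φ zX * f (φ zX) := by
      rw [hf1, mul_one, hd, hzc c, mul_inv_cancel_right]
    have e1 : d * φ p0 * d⁻¹ = φ p0 * f (φ p0) := by
      rw [hd, hi, ← map_inv, ← map_mul, ← map_mul, ← map_pow, ← map_mul, heq]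
      exact hcp
    have e2 : d * φ r0 * d⁻¹ = φ r0 * f (φ r0) := by
      rw [hd, hj, ← map_inv, ← map_mul, ← map_mul, ← map_pow, ← map_mul, heq]
      exact hcr
    rintro _ ⟨b, hbR, rfl⟩
    obtain ⟨u, v, w, e⟩ := hb b hbR
    rw [(heq _ _).2 e, map_mul, map_mul, map_pow, map_pow, map_pow]
    have m0 : φ zX ∈ B := ⟨zX, hf'.1.2.1, rfl⟩
    have m1 : φ p0 ∈ B := ⟨p0, hp0, rfl⟩
    have m2 : φ r0 ∈ B := ⟨r0, hr0, rfl⟩
    obtain ⟨n0, f0⟩ := hpw _ m0 h0 u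
    obtain ⟨n1, f1⟩ := hpw _ m1 e1 v
    obtain ⟨n2, f2⟩ := hpw _ m2 e2 w
    exact hmul _ (mul_mem n0 n1) _ n2 (hmul _ n0 _ n1 f0 f1) f2

theorem card_AB : Nat.card {x : X // PA x = true} = 16 ∧ Nat.card {x : X // PB x = true} = 16 := by
  rw [Nat.card_eq_fintype_card, Nat.card_eq_fintype_card]
  decide +kernel

/-- the image has half the order -/
theorem card_image {H : Subgroup X} (hm : (mq, mq) ∈ H) {φ : X →* S} (hker : ∀ x, φ x = 1 ↔ K0 x) :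
    Nat.card H = 2 * Nat.card (H.map φ) := by
  set r := φ.comp H.subtype with hr
  have h1 := r.ker.card_mul_index
  rw [index_ker] at h1
  have hrange : r.range = H.map φ := by rw [hr, MonoidHom.range_comp, range_subtype]
  have hk : Nat.card r.ker = 2 := by
    rw [Nat.card_eq_two_iff' (1 : r.ker)]
    refine ⟨⟨⟨(mq, mq), hm⟩, (hker _).2 (Or.inr rfl)⟩, fun e => ?_, fun y hy => ?_⟩
    · exact absurd (congrArg (fun u : r.ker => ((u : H) : X)) e) (show ((mq, mq) : X) ≠ 1 by decide)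
    · rcases (hker _).1 (MonoidHom.mem_ker.1 y.2 : φ ((y : H) : X) = 1) with e | e
      · exact absurd (Subtype.ext (Subtype.ext e) : y = 1) hy
      · exact Subtype.ext (Subtype.ext e)
  rw [hk, hrange] at h1
  exact h1.symm

end Cfsg.Agent.QuatQuat
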