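import Cfsg.Agent.SecRankFour.Basic

/-!
Two elementary abelian subgroups of order eight of `Q`, meeting in the centre: one of them is self-centralizing in
any 2-group in which `Q` contains its centralizer.
-/

set_option autoImplicit false
set_option linter.style.haveILetI false
set_option linter.unusedSectionVars false
set_option maxHeartbeats 400000

namespace Cfsg.Agent.QuatQuat

open Subgroup
open scoped Pointwise

variable {S : Type*} [Group S]

/-- the position of the two subgroups in `Q` -/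
structure Pr (Q A B : Subgroup S) (z : S) : Prop where
  hC : centralizer (Q : Set S) ≤ Q
  leA : A ≤ Q
  leB : B ≤ Q
  zA : z ∈ A
  zB : z ∈ B
  zQ : ∀ q ∈ Q, q * z = z * q
  sqA : ∀ a ∈ A, a * a = 1
  sqB : ∀ b ∈ B, b * b = 1
  cent : ∀ q ∈ Q, (∀ a ∈ A, q * a = a * q) → q ∈ A
  norm : ∀ q ∈ Q, ∀ a ∈ A, q * a * q⁻¹ ∈ A
  gen : ∀ q ∈ Q, ∃ a ∈ A, ∃ b ∈ B, q = a * b
  one : ∀ p ∈ B, ∀ r ∈ B, ∀ d ∈ A, p * d = d * p → r * d = d * r → p ≠ 1 → p ≠ z → r ≠ 1 → r ≠ z → r ≠ p →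
    r ≠ p * z → d = 1 ∨ d = z
  uniq : ∀ p ∈ B, p ≠ 1 → p ≠ z → ∀ a ∈ A, ∀ a' ∈ A, a ≠ 1 → a ≠ z → a' ≠ 1 → a' ≠ z → p * a = a * p →
    p * a' = a' * p → a' = a ∨ a' = a * z
  inner : ∀ f : S → S, (∀ b ∈ B, f b = 1 ∨ f b = z) → (∀ b ∈ B, ∀ b' ∈ B, f (b * b') = f b * f b') → f z = 1 →
    ∃ c ∈ A, ∀ b ∈ B, c * b * c⁻¹ = b * f b

namespace Pr

variable {Q A B : Subgroup S} {z : S} (h : Pr Q A B z)
include h

theorem disp {y b : S} (hyn : ∀ q ∈ Q, y * q * y⁻¹ ∈ Q) (hy : ∀ a ∈ A, y * a = a * y) (hb : b ∈ B) :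
    ∃ d ∈ A, y * b * y⁻¹ = b * d ∧ b * d = d * b := by
  refine ⟨b⁻¹ * (y * b * y⁻¹), h.cent _ (mul_mem (inv_mem (h.leB hb)) (hyn b (h.leB hb))) fun a ha => ?_,
    by group, ?_⟩
  · have ha' := h.norm b (h.leB hb) a ha
    have hya : Commute y a := hy a ha
    have hya' : Commute y (b * a * b⁻¹) := hy _ ha'
    calc b⁻¹ * (y * b * y⁻¹) * a = b⁻¹ * y * b * (y⁻¹ * a) := by group
      _ = b⁻¹ * y * b * (a * y⁻¹) := by rw [hya.inv_left.eq]
      _ = b⁻¹ * (y * (b * a * b⁻¹)) * b * y⁻¹ := by group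
      _ = b⁻¹ * ((b * a * b⁻¹) * y) * b * y⁻¹ := by rw [hya'.eq]
      _ = _ := by group
  · have hd := h.cent (b⁻¹ * (y * b * y⁻¹)) (mul_mem (inv_mem (h.leB hb)) (hyn b (h.leB hb))) fun a ha => by
      have ha' := h.norm b (h.leB hb) a ha
      have hya : Commute y a := hy a ha
      have hya' : Commute y (b * a * b⁻¹) := hy _ ha'
      calc b⁻¹ * (y * b * y⁻¹) * a = b⁻¹ * y * b * (y⁻¹ * a) := by group
        _ = b⁻¹ * y * b * (a * y⁻¹) := by rw [hya.inv_left.eq]
        _ = b⁻¹ * (y * (b * a * b⁻¹)) * b * y⁻¹ := by group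
        _ = b⁻¹ * ((b * a * b⁻¹) * y) * b * y⁻¹ := by rw [hya'.eq]
        _ = _ := by group
    set d := b⁻¹ * (y * b * y⁻¹) with hdd
    have h1 : b * d * (b * d) = 1 := by
      rw [hdd, mul_inv_cancel_left, show y * b * y⁻¹ * (y * b * y⁻¹) = y * (b * b) * y⁻¹ by group, h.sqB b hb,
        mul_one, mul_inv_cancel]
    calc b * d = (b * d)⁻¹ := (inv_eq_of_mul_eq_one_right h1).symm
      _ = d * b := by
        rw [mul_inv_rev, inv_eq_of_mul_eq_one_right (h.sqA d hd), inv_eq_of_mul_eq_one_right (h.sqB b hb)]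

/-- an element outside `A` centralizing it moves every element of `B` modulo the centre -/
theorem moves {y : S} (hyn : ∀ q ∈ Q, y * q * y⁻¹ ∈ Q) (hy : ∀ a ∈ A, y * a = a * y) (hyA : y ∉ A) {p : S}
    (hp : p ∈ B) (hp1 : p ≠ 1) (hpz : p ≠ z) :
    ∃ a ∈ A, a ≠ 1 ∧ a ≠ z ∧ p * a = a * p ∧ y * p * y⁻¹ = p * a := by
  obtain ⟨d, hd, hyp, hpd⟩ := h.disp hyn hy hp
  by_contra hno
  have hdz : d = 1 ∨ d = z := by
    by_contra hne
    push Not at hne
    exact hno ⟨d, hd, hne.1, hne.2, hpd, hyp⟩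
  have hyz : ∀ e : S, e = 1 ∨ e = z → y * e = e * y := by
    rintro e (rfl | rfl)
    · simp
    · exact hy _ h.zA
  have hcz : ∀ e : S, e = 1 ∨ e = z → ∀ q ∈ Q, q * e = e * q := by
    rintro e (rfl | rfl) q hq
    · simp
    · exact h.zQ q hq
  have hall : ∀ r ∈ B, y * r * y⁻¹ = r * 1 ∨ y * r * y⁻¹ = r * z := by
    intro r hr
    obtain ⟨e, he, hyr, hre⟩ := h.disp hyn hy hr
    suffices e = 1 ∨ e = z by rcases this with rfl | rfl <;> tauto
    have hcases : (e = 1 ∨ e = z) ∨ (r ≠ 1 ∧ r ≠ z) := by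
      by_cases hr1 : r = 1 ∨ r = z
      · left; left
        have h1 : y * r * y⁻¹ = r := by rw [hyz r hr1, mul_inv_cancel_right]
        rw [h1] at hyr
        exact mul_left_cancel (hyr.symm.trans (mul_one r).symm)
      · push Not at hr1
        exact Or.inr hr1
    rcases hcases with h1 | ⟨hr1, hrz⟩
    · exact h1
    by_cases hrp : r = p
    · subst hrp
      rw [hyp] at hyr
      rw [← mul_left_cancel hyr]
      exact hdz
    by_cases hrpz : r = p * z
    · subst hrpz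
      have h1 : y * (p * z) * y⁻¹ = p * z * d := by
        rw [show y * (p * z) * y⁻¹ = y * p * y⁻¹ * (y * z * y⁻¹) by group, hyp, hy z h.zA, mul_inv_cancel_right,
          mul_assoc, mul_assoc, ← hcz d hdz z (h.leA h.zA)]
      rw [h1] at hyr
      rw [← mul_left_cancel hyr]
      exact hdz
    refine h.one p hp r hr e he ?_ hre hp1 hpz hr1 hrz hrp hrpz
    have hpr : Commute p r := by
      have h1 := inv_eq_of_mul_eq_one_right (h.sqB _ (mul_mem hp hr))
      rw [mul_inv_rev, inv_eq_of_mul_eq_one_right (h.sqB p hp), inv_eq_of_mul_eq_one_right (h.sqB r hr)] at h1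
      exact h1.symm
    have h2 : Commute (p * d) (r * e) := by
      have h3 := (hpr.map (MulAut.conj y))
      simp only [MulAut.conj_apply] at h3
      rwa [hyp, hyr] at h3
    have hdQ : ∀ q ∈ Q, Commute d q := fun q hq => (hcz d hdz q hq).symm
    have hre' : r * e ∈ Q := mul_mem (h.leB hr) (h.leA he)
    have h4 := h2
    have hp' : Commute p (r * e) := by
      have := h2.mul_left ((hdQ _ hre').inv_left)
      rwa [mul_inv_cancel_right] at this
    have := hpr.inv_right.mul_right hp'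
    rwa [inv_mul_cancel_left] at this
  let f : S → S := fun b => b⁻¹ * (y * b * y⁻¹)
  have hf : ∀ b ∈ B, f b = 1 ∨ f b = z := fun b hb => by
    rcases hall b hb with e | e <;> simp only [f, e, inv_mul_cancel_left] <;> tauto
  have hfz : f z = 1 := by
    simp only [f]
    rw [hy z h.zA, mul_inv_cancel_right, inv_mul_cancel]
  have hfm : ∀ b ∈ B, ∀ b' ∈ B, f (b * b') = f b * f b' := fun b hb b' hb' => by
    have e1 : b' * f b = f b * b' := hcz _ (hf b hb) b' (h.leB hb')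
    calc f (b * b') = b'⁻¹ * (b⁻¹ * (y * b * y⁻¹)) * (y * b' * y⁻¹) := by simp only [f]; group
      _ = b'⁻¹ * f b * (y * b' * y⁻¹) := rfl
      _ = b'⁻¹ * (f b * b') * (b'⁻¹ * (y * b' * y⁻¹)) := by group
      _ = f b * f b' := by rw [← e1]; simp only [f]; group
  obtain ⟨c, hc, hcb⟩ := h.inner f hf hfm hfz
  have hu : c⁻¹ * y ∈ centralizer (Q : Set S) := by
    refine mem_centralizer_iff.2 fun q hq => ?_
    obtain ⟨a, ha, b, hb, rfl⟩ := h.gen q hq
    have hca : Commute c a := by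
      have h1 := inv_eq_of_mul_eq_one_right (h.sqA _ (mul_mem hc ha))
      rw [mul_inv_rev, inv_eq_of_mul_eq_one_right (h.sqA c hc), inv_eq_of_mul_eq_one_right (h.sqA a ha)] at h1
      exact h1.symm
    have c1 : Commute (c⁻¹ * y) a := hca.inv_left.mul_left (hy a ha)
    have c2 : Commute (c⁻¹ * y) b := by
      refine mul_inv_eq_iff_eq_mul.1 ?_
      calc c⁻¹ * y * b * (c⁻¹ * y)⁻¹ = c⁻¹ * (y * b * y⁻¹) * c := by group
        _ = c⁻¹ * (b * f b) * c := by simp only [f]; group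
        _ = c⁻¹ * (c * b * c⁻¹) * c := by rw [hcb b hb]
        _ = b := by group
    exact (c1.mul_right c2).eq.symm
  refine hyA (h.cent y ?_ hy)
  have := mul_mem (h.leA hc) (h.hC hu)
  rwa [mul_inv_cancel_left] at this

end Pr

/-- one of the two subgroups is self-centralizing -/
theorem exists_selfcent [Finite S] (hS : IsPGroup 2 S) {Q A B : Subgroup S} {z : S} (h : Pr Q A B z)
    (h' : Pr Q B A z) : centralizer (A : Set S) ≤ A ∨ centralizer (B : Set S) ≤ B := by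
  haveI : Fact (Nat.Prime 2) := ⟨Nat.prime_two⟩
  have lift : ∀ {A B : Subgroup S}, Pr Q A B z → ¬ centralizer (A : Set S) ≤ A →
      ∃ y, (∀ q ∈ Q, y * q * y⁻¹ ∈ Q) ∧ (∀ a ∈ A, y * a = a * y) ∧ y ∉ A := by
    intro A B h hne
    by_contra hno
    push Not at hno
    set C := centralizer (A : Set S) with hC
    have hQC : Q ≤ normalizer (C : Set S) := by
      have key : ∀ q ∈ Q, ∀ x ∈ C, q * x * q⁻¹ ∈ C := fun q hq x hx => mem_centralizer_iff.2 fun a ha => by
        have h1 := h.norm q⁻¹ (inv_mem hq) a ha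
        rw [inv_inv] at h1
        calc a * (q * x * q⁻¹) = q * ((q⁻¹ * a * q) * x) * q⁻¹ := by group
          _ = q * (x * (q⁻¹ * a * q)) * q⁻¹ := by rw [mem_centralizer_iff.1 hx _ h1]
          _ = _ := by group
      intro q hq
      refine mem_normalizer_iff.2 fun x => ⟨key q hq x, fun hx => ?_⟩
      have h1 := key q⁻¹ (inv_mem hq) _ hx
      rwa [show q⁻¹ * (q * x * q⁻¹) * q⁻¹⁻¹ = x by group] at h1
    set M := Q ⊔ C with hM
    have hQM : Q.subgroupOf M ≠ ⊤ := fun e => hne fun x hx => by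
      have hxQ : x ∈ Q := subgroupOf_eq_top.1 e (mem_sup_right hx)
      exact h.cent x hxQ fun a ha => (mem_centralizer_iff.1 hx a ha).symm
    haveI := (hS.to_subgroup M).isNilpotent
    obtain ⟨⟨m, hm⟩, hmn, hmQ⟩ := SetLike.not_le_iff_exists.1 fun hle =>
      (Group.normalizerCondition_of_isNilpotent (G := M) (Q.subgroupOf M) (lt_top_iff_ne_top.2 hQM)).not_ge hle
    have hm' : m ∈ (Q : Set S) * (C : Set S) := by
      rw [← coe_mul_of_left_le_normalizer_right Q C hQC]; exact hm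
    obtain ⟨q, hq, c, hc, rfl⟩ := hm'
    refine hmQ (mem_subgroupOf.2 (mul_mem hq (h.leA (hno c ?_ fun a ha => (mem_centralizer_iff.1 hc a ha).symm))))
    intro u hu
    have h1 := (mem_normalizer_iff.1 hmn ⟨u, mem_sup_left hu⟩).1 (mem_subgroupOf.2 hu)
    rw [mem_subgroupOf] at h1
    have h2 := mul_mem (mul_mem (inv_mem hq) h1) hq
    simp only [Subgroup.coe_mul, Subgroup.coe_inv] at h2
    rwa [show q⁻¹ * (q * c * u * (q * c)⁻¹) * q = c * u * c⁻¹ by group] at h2
  by_contra hno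
  push Not at hno
  obtain ⟨y, hyn, hy, hyA⟩ := lift h hno.1
  obtain ⟨y', hy'n, hy', hy'B⟩ := lift h' hno.2
  obtain ⟨p, hp, hp1, hpz⟩ : ∃ p ∈ B, p ≠ 1 ∧ p ≠ z := by
    by_contra hh
    push Not at hh
    have hle : ∀ b ∈ B, b ∈ A := fun b hb => by
      by_cases hb1 : b = 1
      · rw [hb1]; exact A.one_mem
      · rw [hh b hb hb1]; exact h.zA
    exact hyA (h.cent y (h.hC (mem_centralizer_iff.2 fun q hq => by
      obtain ⟨a, ha, b, hb, rfl⟩ := h.gen q hq
      exact (hy _ (mul_mem ha (hle b hb))).symm)) hy)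
  obtain ⟨a, ha, ha1, haz, hpa, hyp⟩ := h.moves hyn hy hyA hp hp1 hpz
  obtain ⟨p1, hp1B, hp11, hp1z, hap1, hy'a⟩ := h'.moves hy'n hy' hy'B ha ha1 haz
  have hp1' : p1 = p ∨ p1 = p * z := h'.uniq a ha ha1 haz p hp p1 hp1B hp1 hpz hp11 hp1z hpa.symm hap1
  set g := y * y' with hg
  have gp : g * p * g⁻¹ = p * a := by
    rw [hg, show y * y' * p * (y * y')⁻¹ = y * (y' * p * y'⁻¹) * y⁻¹ by group, hy' p hp, mul_inv_cancel_right, hyp]
  have gz : Commute g z := (show Commute y z from hy z h.zA).mul_left (hy' z h.zB)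
  have ga : g * a * g⁻¹ = p ∨ g * a * g⁻¹ = p * z := by
    have e1 : g * a * g⁻¹ = y * a * y⁻¹ * (y * p1 * y⁻¹) := by
      rw [hg, show y * y' * a * (y * y')⁻¹ = y * (y' * a * y'⁻¹) * y⁻¹ by group, hy'a]
      group
    have e3 : a * (p * a) = p := by rw [hpa, ← mul_assoc, h.sqA a ha, one_mul]
    rcases hp1' with rfl | rfl
    · left
      rw [e1, hyp, hy a ha, mul_inv_cancel_right, e3]
    · right
      rw [e1, show y * (p * z) * y⁻¹ = y * p * y⁻¹ * (y * z * y⁻¹) by group, hyp, hy a ha, hy z h.zA,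
        mul_inv_cancel_right, mul_inv_cancel_right, ← mul_assoc, e3]
  have hconj : ∀ u v : S, g * (u * v) * g⁻¹ = g * u * g⁻¹ * (g * v * g⁻¹) := fun u v => by group
  have gzz : g * z * g⁻¹ = z := by rw [gz.eq, mul_inv_cancel_right]
  have zz : z * z = 1 := h.sqA z h.zA
  have cza : z * a = a * z := (h.zQ a (h.leA ha)).symm
  have h3 : ∃ e, (e = 1 ∨ e = z) ∧ g * (g * (g * p * g⁻¹) * g⁻¹) * g⁻¹ = p * e := by
    rw [gp, hconj p a, gp]
    rcases ga with e | e <;> rw [e]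
    · rw [show p * a * p = p * (a * p) by group, ← hpa, ← mul_assoc p p, h.sqB p hp, one_mul, e]
      exact ⟨1, Or.inl rfl, (mul_one p).symm⟩
    · rw [show p * a * (p * z) = p * (a * p) * z by group, ← hpa, ← mul_assoc p p, h.sqB p hp, one_mul, hconj a z, e, gzz,
        mul_assoc, zz, mul_one]
      exact ⟨1, Or.inl rfl, (mul_one p).symm⟩
  obtain ⟨e, he, h3'⟩ := h3
  set k := g * g * g with hk
  have hkp : k * p * k⁻¹ = p * e := by rw [← h3', hk]; group
  have hke : Commute k e := by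
    rcases he with rfl | rfl
    · exact Commute.one_right k
    · exact (gz.mul_left gz).mul_left gz
  have hpow : ∀ t : ℕ, k ^ t * p * (k ^ t)⁻¹ = p * e ^ t := by
    intro t
    induction t with
    | zero => simp
    | succ t ih =>
      rw [pow_succ', show k * k ^ t * p * (k * k ^ t)⁻¹ = k * (k ^ t * p * (k ^ t)⁻¹) * k⁻¹ by group, ih,
        show k * (p * e ^ t) * k⁻¹ = k * p * k⁻¹ * (k * e ^ t * k⁻¹) by group, hkp, (hke.pow_right t).eq,
        mul_inv_cancel_right, mul_assoc, ← pow_succ']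
  obtain ⟨n, hn⟩ := (IsPGroup.iff_orderOf.1 hS) g
  obtain ⟨t, ht⟩ : ∃ t : ℕ, g = k ^ t := by
    have hcop : Nat.Coprime 3 (orderOf g) := by
      rw [hn]
      exact Nat.Coprime.pow_right n (by norm_num)
    obtain ⟨t, ht⟩ := exists_pow_eq_self_of_coprime hcop
    exact ⟨t, by rw [show k = g ^ 3 by rw [hk, pow_succ, pow_two], ht]⟩
  have h5 := hpow t
  rw [← ht, gp] at h5
  have h6 := mul_left_cancel h5
  rcases he with rfl | he
  · exact ha1 (h6.trans (one_pow t))
  · obtain ⟨j, hj | hj⟩ := Nat.even_or_odd' t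
    · exact ha1 (by rw [h6, he, hj, pow_mul, pow_two, h.sqA z h.zA, one_pow])
    · exact haz (by rw [h6, he, hj, pow_succ, pow_mul, pow_two, h.sqA z h.zA, one_pow, one_mul])

end Cfsg.Agent.QuatQuat
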